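import Cfsg.Agent.EqLemmas
import Cfsg.Agent.Lib.AbelianSylow.GoldschmidtStruct.SFourFree
import Cfsg.Agent.Lib.SThreeFree.Reduce
import Cfsg.Agent.Lib.TwoClosedInverted.Basic
import Cfsg.Agent.Lib.PLocal.Functor
import Cfsg.Agent.S2758

/-!
# Groups without a section `S₃` (owner: helper87)

* `not_four_of_three`        : an `S₃`-free group is `S₄`-free
* `simple_cases`             : `S₃`-free simple groups are `Sz` or `L₂(3^odd)`, from `CentTarget`
* `kgroup`                   : the composition factors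
* `not_involves_of_normalizer` : `N(Z(J(T)))` decides whether `S₃` is involved
-/

set_option autoImplicit false
set_option linter.style.haveILetI false

namespace Cfsg.Agent.SThreeSimple

open Subgroup
open scoped Pointwise

universe u

variable {G : Type u} [Group G] [Finite G]

omit [Finite G] in
theorem not_four_of_three (h : ¬ Cfsg.Involves (Equiv.Perm (Fin 3)) G) :
    ¬ Cfsg.Involves (Equiv.Perm (Fin 4)) G := fun h4 => by
  obtain ⟨K, f, hf⟩ := Involves.exists_hom_of_involves h4
  let ι : Equiv.Perm (Fin 3) →* Equiv.Perm (Fin 4) := Equiv.Perm.viaEmbeddingHom Fin.castSuccEmb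
  have hι : Function.Injective ι := Equiv.Perm.viaEmbeddingHom_injective _
  let g := f.subgroupComap ι.range
  refine h (Involves.involves_of_subgroup (N := K) (Involves.involves_of_hom
    ((MonoidHom.ofInjective hι).symm.toMonoidHom.comp g) ?_))
  exact (MonoidHom.ofInjective hι).symm.surjective.comp
    (f.subgroupComap_surjective_of_surjective ι.range hf)

/-- `S₃`-free simple groups. -/
theorem simple_cases (hA : AbelianSylow.CentTarget.{u}) [IsSimpleGroup G] (hna : ¬ IsMulCommutative G)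
    (h : ¬ Cfsg.Involves (Equiv.Perm (Fin 3)) G) : Cfsg.IsSuzukiOrPSL2OddPowerThree G :=
  ((S2755.result ((AbelianSylow.GoldschmidtStruct.sfour_free_iff_of hA hna).1 (not_four_of_three h))).2).1 h

/-- The composition factors of an `S₃`-free group. -/
theorem kgroup (hA : AbelianSylow.CentTarget.{u}) (h : ¬ Cfsg.Involves (Equiv.Perm (Fin 3)) G) :
    Cfsg.IsCompositionKGroupWith Cfsg.IsSuzukiOrPSL2OddPowerThree G := by
  intro H _ N _ hs hna
  haveI := hs
  refine simple_cases hA hna fun hq => h ?_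
  exact Involves.involves_of_subgroup
    (Involves.involves_of_surjective (QuotientGroup.mk' N) (QuotientGroup.mk'_surjective N) hq)

/-- An inverted 3-element moves into the normaliser of `Z(J(T))`. -/
theorem not_involves_of_normalizer (T : Sylow 3 G) (h : ∀ x ∈ (T : Subgroup G), x ≠ 1 →
      ∀ g ∈ normalizer (Cfsg.centerThompsonAOf (T : Subgroup G) : Set G), g * x * g⁻¹ ≠ x⁻¹) :
    ¬ Cfsg.Involves (Equiv.Perm (Fin 3)) G := fun hS => by
  haveI : Fact (Nat.Prime 3) := ⟨Nat.prime_three⟩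
  obtain ⟨e⟩ := SThreeFree.dihedralThree
  obtain ⟨t, y, -, ⟨k, hk⟩, hy1, hty⟩ :=
    (S2758.result (p := 3) (by norm_num)).2.1 (Involves.involves_of_mulEquiv e.symm hS)
  obtain ⟨T', x, n, hx, hx1, hn, hnx⟩ := TwoClosedInverted.exists_inverted_normalizer (p := 3) (by norm_num)
    ⟨k, by rw [← hk]; exact pow_orderOf_eq_one y⟩ hy1 hty
  obtain ⟨g, rfl⟩ := MulAction.exists_smul_eq G T T'
  rw [Sylow.coe_subgroup_smul, Subgroup.mem_pointwise_smul_iff_inv_smul_mem, MulAut.smul_def,
    MulAut.conj_inv_apply] at hx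
  have hmap : ((g • T : Sylow 3 G) : Subgroup G) = (T : Subgroup G).map (MulAut.conj g).toMonoidHom := by
    rw [Sylow.coe_subgroup_smul]; rfl
  rw [hmap, ← PLocal.map_centerThompsonAOf _ (Set.injOn_of_injective (MulAut.conj g).injective)] at hn
  have hn' : g⁻¹ * n * g ∈ normalizer (Cfsg.centerThompsonAOf (T : Subgroup G) : Set G) :=
    Coprime.mem_normalizer_of_forall fun z hz => by
      obtain ⟨w, hw, hwe⟩ := (mem_normalizer_iff.1 hn (g * z * g⁻¹)).1 ⟨z, hz, rfl⟩
      have hwe' : g * w * g⁻¹ = n * (g * z * g⁻¹) * n⁻¹ := hwe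
      have : g⁻¹ * n * g * z * (g⁻¹ * n * g)⁻¹ = w := by
        calc g⁻¹ * n * g * z * (g⁻¹ * n * g)⁻¹ = g⁻¹ * (n * (g * z * g⁻¹) * n⁻¹) * g := by group
          _ = w := by rw [← hwe']; group
      rwa [this]
  refine h (g⁻¹ * x * g) hx (fun e1 => hx1 ?_) (g⁻¹ * n * g) hn' ?_
  · calc x = g * (g⁻¹ * x * g) * g⁻¹ := by group
      _ = 1 := by rw [e1]; group
  · calc g⁻¹ * n * g * (g⁻¹ * x * g) * (g⁻¹ * n * g)⁻¹ = g⁻¹ * (n * x * n⁻¹) * g := by group
      _ = (g⁻¹ * x * g)⁻¹ := by rw [hnx]; group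

end Cfsg.Agent.SThreeSimple
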